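import Groth.Prelude.Def_Grpd
import Groth.Agent.Lib.AlgGrpBasic19.Basic
import Groth.Agent.Lib.GrpQuot.Conj
import Groth.Agent.Lib.GrpdQSecEx19.Good
import Mathlib.CategoryTheory.Monoidal.Cartesian.Over
import Mathlib.CategoryTheory.Monoidal.Grp

/-!
# The groupoid of an action
-/

set_option autoImplicit false
set_option linter.style.haveILetI false
set_option backward.isDefEq.respectTransparency.types false
universe u

open CategoryTheory CategoryTheory.Limits MonoidalCategory CartesianMonoidalCategory MonObj AlgebraicGeometry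

noncomputable section

namespace Groth.Agent.ActGrpd19

variable {S : Scheme.{u}} {G X : Over S} [GrpObj G] (a : AlgGrp.Action G X)

/-- The product of two composable points of `G ⊗ X`. -/
def mulPt {T : Over S} (A B : T ⟶ G ⊗ X) : T ⟶ G ⊗ X :=
  lift ((A ≫ fst G X) * (B ≫ fst G X)) (B ≫ snd G X)

theorem comp_mulPt {T T' : Over S} (f : T' ⟶ T) (A B : T ⟶ G ⊗ X) :
    f ≫ mulPt A B = mulPt (f ≫ A) (f ≫ B) := by
  simp only [mulPt, comp_lift, MonObj.comp_mul, Category.assoc]

theorem mulPt_snd {T : Over S} (A B : T ⟶ G ⊗ X) : mulPt A B ≫ snd G X = B ≫ snd G X := lift_snd _ _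

theorem mulPt_act {T : Over S} (A B : T ⟶ G ⊗ X) (h : A ≫ snd G X = B ≫ a.act) :
    mulPt A B ≫ a.act = A ≫ a.act := by
  have key : ∀ (C : T ⟶ G ⊗ X), lift (C ≫ fst G X) (C ≫ snd G X) ≫ a.act = C ≫ a.act := fun C => by
    rw [← comp_lift, lift_fst_snd, Category.comp_id]
  rw [mulPt, AlgGrpBasic19.act_mul, key, ← h, key]

/-- A point with values in `G ⊗ X`, over `S`. -/
abbrev pt {T : Scheme.{u}} (α : T ⟶ (G ⊗ X).left) : Over.mk (α ≫ (G ⊗ X).hom) ⟶ G ⊗ X := Over.homMk α

theorem over_eq {T : Scheme.{u}} {α β : T ⟶ (G ⊗ X).left} (h : α ≫ (snd G X).left = β ≫ a.act.left) :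
    β ≫ (G ⊗ X).hom = α ≫ (G ⊗ X).hom := by
  have := congrArg (· ≫ X.hom) h
  simpa only [Category.assoc, Over.w] using this.symm

/-- The second of a composable pair, over the base of the first. -/
abbrev pt₂ {T : Scheme.{u}} {α β : T ⟶ (G ⊗ X).left} (h : α ≫ (snd G X).left = β ≫ a.act.left) :
    Over.mk (α ≫ (G ⊗ X).hom) ⟶ G ⊗ X := Over.homMk β (over_eq a h)

theorem comp_eq {T : Scheme.{u}} {α β : T ⟶ (G ⊗ X).left} (h : α ≫ (snd G X).left = β ≫ a.act.left) :
    pt α ≫ snd G X = pt₂ a h ≫ a.act := by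
  ext; exact h

/-- The composition of the action groupoid. -/
def comp : pullback (snd G X).left a.act.left ⟶ (G ⊗ X).left :=
  (mulPt (pt (pullback.fst (snd G X).left a.act.left)) (pt₂ a pullback.condition)).left

theorem lift_comp {T : Scheme.{u}} (α β : T ⟶ (G ⊗ X).left) (h : α ≫ (snd G X).left = β ≫ a.act.left)
    {T' : Over S} (A B : T' ⟶ G ⊗ X) (e : T ⟶ T'.left) (hA : e ≫ A.left = α) (hB : e ≫ B.left = β) :
    pullback.lift α β h ≫ comp a = e ≫ (mulPt A B).left := by
  let TT : Over S := Over.mk (α ≫ (G ⊗ X).hom)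
  let m : TT ⟶ Over.mk (pullback.fst (snd G X).left a.act.left ≫ (G ⊗ X).hom) :=
    Over.homMk (pullback.lift α β h) (pullback.lift_fst_assoc _ _ _ _)
  let e' : TT ⟶ T' := Over.homMk e (by
    show e ≫ T'.hom = α ≫ _
    rw [← hA, Category.assoc, Over.w A])
  have hA' : m ≫ pt (pullback.fst (snd G X).left a.act.left) = e' ≫ A :=
    Over.OverMorphism.ext ((pullback.lift_fst α β h).trans hA.symm)
  have hB' : m ≫ pt₂ a (pullback.condition (f := (snd G X).left) (g := a.act.left)) = e' ≫ B :=
    Over.OverMorphism.ext ((pullback.lift_snd α β h).trans hB.symm)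
  show (m ≫ mulPt _ _).left = (e' ≫ mulPt A B).left
  rw [comp_mulPt, comp_mulPt, hA', hB']

theorem lift_comp' {T : Scheme.{u}} (α β : T ⟶ (G ⊗ X).left) (h : α ≫ (snd G X).left = β ≫ a.act.left) :
    pullback.lift α β h ≫ comp a = (mulPt (pt α) (pt₂ a h)).left :=
  (lift_comp a α β h (pt α) (pt₂ a h) (𝟙 T) (Category.id_comp _) (Category.id_comp _)).trans (Category.id_comp _)

/-- The action groupoid: source the projection, target the action. -/
def actGrpd : Grpd.GroupoidScheme S where
  U := X.left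
  R := (G ⊗ X).left
  pU := X.hom
  pR := (G ⊗ X).hom
  s := (snd G X).left
  t := a.act.left
  e := (lift (1 : X ⟶ G) (𝟙 X)).left
  i := (lift ((fst G X)⁻¹) a.act).left
  c := comp a
  s_over := Over.w _
  t_over := Over.w _
  comp_s α β h := by
    rw [lift_comp', ← Over.comp_left, mulPt_snd]
    rfl
  comp_t α β h := by
    rw [lift_comp', ← Over.comp_left, mulPt_act a _ _ (comp_eq a h)]
    rfl
  assoc := by
    intro T α β γ h₁ h₂
    let TT : Over S := Over.mk (α ≫ (G ⊗ X).hom)
    let A : TT ⟶ G ⊗ X := pt α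
    let B : TT ⟶ G ⊗ X := pt₂ a h₁
    let C : TT ⟶ G ⊗ X := Over.homMk γ ((over_eq a h₂).trans (over_eq a h₁))
    have e₁ : pullback.lift α β h₁ ≫ comp a = (mulPt A B).left := lift_comp' a α β h₁
    have e₂ : pullback.lift β γ h₂ ≫ comp a = (mulPt B C).left :=
      (lift_comp a β γ h₂ B C (𝟙 T) (Category.id_comp _) (Category.id_comp _)).trans (Category.id_comp _)
    refine (lift_comp a _ γ _ (mulPt A B) C (𝟙 T) ((Category.id_comp _).trans e₁.symm) (Category.id_comp _)).trans
      (Eq.trans ?_ (lift_comp a α _ _ A (mulPt B C) (𝟙 T) (Category.id_comp _) ((Category.id_comp _).trans e₂.symm)).symm)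
    congr 2
    apply CartesianMonoidalCategory.hom_ext
    · simp only [mulPt, lift_fst, lift_snd, _root_.mul_assoc]
    · simp only [mulPt, lift_snd]
  e_s := by rw [← Over.comp_left, lift_snd]; rfl
  e_t := by rw [← Over.comp_left, AlgGrpBasic19.act_one]; rfl
  comp_e := by
    intro T α
    refine (lift_comp a _ _ _ (pt α) (pt α ≫ snd G X ≫ lift (1 : X ⟶ G) (𝟙 X)) (𝟙 T) (Category.id_comp _)
      (Category.id_comp _)).trans ?_
    refine (Category.id_comp _).trans (congrArg CommaMorphism.left (?_ : _ = pt α))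
    apply CartesianMonoidalCategory.hom_ext
    · simp only [mulPt, lift_fst, Category.assoc, MonObj.comp_one, _root_.mul_one]
    · simp only [mulPt, lift_snd, Category.assoc, Category.comp_id]
  e_comp := by
    intro T α
    refine (lift_comp a _ _ _ (pt α ≫ a.act ≫ lift (1 : X ⟶ G) (𝟙 X)) (pt α) (𝟙 T) (Category.id_comp _)
      (Category.id_comp _)).trans ?_
    refine (Category.id_comp _).trans (congrArg CommaMorphism.left (?_ : _ = pt α))
    apply CartesianMonoidalCategory.hom_ext
    · simp only [mulPt, lift_fst, Category.assoc, MonObj.comp_one, _root_.one_mul]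
    · simp only [mulPt, lift_snd]
  i_s := by rw [← Over.comp_left, lift_snd]
  i_t := by
    rw [← Over.comp_left]
    congr 1
    have := AlgGrpBasic19.act_mul a (fst G X)⁻¹ (fst G X) (snd G X)
    rw [inv_mul_cancel, AlgGrpBasic19.act_one, lift_fst_snd, Category.id_comp] at this
    exact this.symm
  comp_i := by
    intro T α
    refine (lift_comp a _ _ _ (pt α) (pt α ≫ lift ((fst G X)⁻¹) a.act) (𝟙 T) (Category.id_comp _)
      (Category.id_comp _)).trans ?_
    refine (Category.id_comp _).trans (congrArg CommaMorphism.left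
      (?_ : _ = pt α ≫ a.act ≫ lift (1 : X ⟶ G) (𝟙 X)))
    apply CartesianMonoidalCategory.hom_ext
    · simp only [mulPt, lift_fst, Category.assoc, MonObj.comp_one, GrpObj.comp_inv, mul_inv_cancel]
    · simp only [mulPt, lift_snd, Category.assoc, Category.comp_id]
  i_comp := by
    intro T α
    refine (lift_comp a _ _ _ (pt α ≫ lift ((fst G X)⁻¹) a.act) (pt α) (𝟙 T) (Category.id_comp _)
      (Category.id_comp _)).trans ?_
    refine (Category.id_comp _).trans (congrArg CommaMorphism.left
      (?_ : _ = pt α ≫ snd G X ≫ lift (1 : X ⟶ G) (𝟙 X)))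
    apply CartesianMonoidalCategory.hom_ext
    · simp only [mulPt, lift_fst, Category.assoc, MonObj.comp_one, GrpObj.comp_inv, inv_mul_cancel]
    · simp only [mulPt, lift_snd, Category.assoc, Category.comp_id]

theorem j_eq : (actGrpd a).j = (lift a.act (snd G X)).left := by
  apply pullback.hom_ext
  · exact (pullback.lift_fst _ _ _).trans (congrArg CommaMorphism.left (lift_fst a.act (snd G X))).symm
  · exact (pullback.lift_snd _ _ _).trans (congrArg CommaMorphism.left (lift_snd a.act (snd G X))).symm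

theorem diag_eq : (actGrpd a).diag = (lift (𝟙 X) (𝟙 X)).left := by
  apply pullback.hom_ext
  · exact (pullback.lift_fst _ _ _).trans (congrArg CommaMorphism.left (lift_fst (𝟙 X) (𝟙 X))).symm
  · exact (pullback.lift_snd _ _ _).trans (congrArg CommaMorphism.left (lift_snd (𝟙 X) (𝟙 X))).symm

theorem stabilizer_iff (P : MorphismProperty Scheme.{u}) [P.RespectsIso] :
    P (actGrpd a).stabilizerToU ↔ P (pullback.snd (lift a.act (snd G X)) (lift (𝟙 X) (𝟙 X))).left := by
  have h := (IsPullback.of_hasPullback (lift a.act (snd G X)) (lift (𝟙 X) (𝟙 X))).map (Over.forget S)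
  have h' : IsPullback (pullback.fst (lift a.act (snd G X)) (lift (𝟙 X) (𝟙 X))).left
      (pullback.snd (lift a.act (snd G X)) (lift (𝟙 X) (𝟙 X))).left (actGrpd a).j (actGrpd a).diag := by
    rw [j_eq, diag_eq]; exact h
  rw [← h'.isoPullback_hom_snd, P.cancel_left_of_respectsIso]
  rfl

end Groth.Agent.ActGrpd19

namespace Groth.Agent.GrpQuot

open Groth.Agent.GrpdB

variable {S : Scheme.{u}} (G : Grpd.GroupoidScheme S)

/-- Quasi-finiteness of `(t, s)` from that of the stabilizer. -/
theorem lqf_j_of_stabilizer [LocallyOfFiniteType G.j] [QuasiCompact G.stabilizerToU]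
    [LocallyQuasiFinite G.stabilizerToU] : LocallyQuasiFinite G.j := by
  rw [← Scheme.Hom.quasiFiniteLocus_eq_top_iff, eq_top_iff]
  rintro r -
  rw [Scheme.Hom.mem_quasiFiniteLocus]
  refine GrpdQSecEx19.quasiFiniteAt_of_finite G.j ?_
  -- loops at the target
  let A : pullback G.j G.j ⟶ G.R := pullback.fst G.j G.j
  let B : pullback G.j G.j ⟶ G.R := pullback.snd G.j G.j
  have hab : A ≫ G.s = inv' B ≫ G.t := (s_eq_of_comp_j pullback.condition).trans (inv_t _).symm
  let κ : pullback G.j G.j ⟶ pullback G.stabilizerToU G.t :=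
    pullback.lift (stabLift G (cmp G A (inv' B) hab) (B ≫ G.t)
      ((cmp_t _ _ _).trans (t_eq_of_comp_j pullback.condition)) ((cmp_s _ _ _).trans (inv_s _))) B
      (stabLift_toU _ _ _ _ _)
  let z := pullback.fst G.stabilizerToU G.t ≫ pullback.fst G.j G.diag
  let ψ : pullback G.stabilizerToU G.t ⟶ G.R :=
    cmp G z (pullback.snd G.stabilizerToU G.t) ((stab_s G _).trans pullback.condition)
  have hψ : κ ≫ ψ = A := by
    rw [comp_cmp]
    refine (cmp_congr (α' := cmp G A (inv' B) hab) (β' := B) ?_ (pullback.lift_snd _ _ _) _).trans ?_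
    · simp only [κ, z, pullback.lift_fst_assoc, stabLift_fst]
    · exact cancel_right' A B (s_eq_of_comp_j pullback.condition)
  haveI : LocallyQuasiFinite (pullback.snd G.stabilizerToU G.t) :=
    MorphismProperty.pullback_snd _ _ ‹_›
  haveI : QuasiCompact (pullback.snd G.stabilizerToU G.t) :=
    MorphismProperty.pullback_snd _ _ ‹_›
  have hfin := ((pullback.snd G.stabilizerToU G.t).finite_preimage (Set.finite_singleton r)).image ψ
  refine hfin.subset fun x hx => ?_
  obtain ⟨P, hP₁, hP₂⟩ := Scheme.Pullback.exists_preimage_pullback (f := G.j) (g := G.j) x r hx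
  refine ⟨κ P, ?_, ?_⟩
  · show pullback.snd G.stabilizerToU G.t (κ P) = r
    rw [← Scheme.Hom.comp_apply, pullback.lift_snd]
    exact hP₂
  · rw [← Scheme.Hom.comp_apply, hψ]
    exact hP₁

end Groth.Agent.GrpQuot
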